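import Groth.Agent.W7Exist.Induct
import Groth.Agent.ThickProp.Square

/-!
Algebraization of compatible closed subschemes of the thickenings.
-/

set_option autoImplicit false
set_option backward.isDefEq.respectTransparency false
set_option backward.isDefEq.respectTransparency.types false
set_option linter.style.haveILetI false
set_option maxHeartbeats 2000000

universe u

open CategoryTheory CategoryTheory.Limits AlgebraicGeometry TopologicalSpace Opposite
open Groth.Agent.QC (res resO res_res res_smul app_res appₗ)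
open Groth.Agent.W7Exist

noncomputable section

namespace Groth.Agent.W7Alg

variable {A : Type u} [CommRing A] (I : Ideal A)

lemma ker_mk_pow (n : ℕ) : RingHom.ker (Ideal.Quotient.mk (I ^ (n + 1))) = I ^ (n + 1) := Ideal.mk_ker

/-- The kernel of `Spec (A/J) ⟶ Spec A` on global sections. -/
lemma ker_app_top {B : Type u} [CommRing B] (φ : A →+* B) (hφ : Function.Surjective φ) :
    RingHom.ker ((Spec.map (CommRingCat.ofHom φ)).app ⊤).hom =
      (RingHom.ker φ).map (Scheme.ΓSpecIso (CommRingCat.of A)).inv.hom := by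
  have h := Scheme.ΓSpecIso_inv_naturality (CommRingCat.ofHom φ)
  ext x
  obtain ⟨a, rfl⟩ : ∃ a, (Scheme.ΓSpecIso (CommRingCat.of A)).inv.hom a = x :=
    (ConcreteCategory.bijective_of_isIso (Scheme.ΓSpecIso (CommRingCat.of A)).inv).2 x
  have h1 : ((Spec.map (CommRingCat.ofHom φ)).app ⊤).hom ((Scheme.ΓSpecIso (CommRingCat.of A)).inv.hom a) =
      (Scheme.ΓSpecIso (CommRingCat.of B)).inv.hom (φ a) := (congrArg (fun k => k.hom a) h).symm
  rw [RingHom.mem_ker, h1, map_eq_zero_iff _ (ConcreteCategory.bijective_of_isIso (Scheme.ΓSpecIso (CommRingCat.of B)).inv).1,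
    Ideal.mem_map_iff_of_surjective _ (ConcreteCategory.bijective_of_isIso (Scheme.ΓSpecIso (CommRingCat.of A)).inv).2]
  constructor
  · exact fun h => ⟨a, h, rfl⟩
  · rintro ⟨b, hb, hab⟩
    rwa [(ConcreteCategory.bijective_of_isIso (Scheme.ΓSpecIso (CommRingCat.of A)).inv).1 hab] at hb

/-- The kernel of the base change of a quotient of the base, on affines. -/
lemma ker_app_baseChange {B : Type u} [CommRing B] (φ : A →+* B) (hφ : Function.Surjective φ) {X' X : Scheme.{u}}
    {f : X ⟶ Spec (CommRingCat.of A)} {f' : X' ⟶ Spec (CommRingCat.of B)} {i : X' ⟶ X}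
    (hc : IsPullback i f' f (Spec.map (CommRingCat.ofHom φ))) (U : X.affineOpens) :
    letI : X.Over (Spec (CommRingCat.of A)) := ⟨f⟩
    RingHom.ker (i.app U.1).hom = (RingHom.ker φ).map (W7Cech.secRing A U.1) := by
  letI : X.Over (Spec (CommRingCat.of A)) := ⟨f⟩
  haveI : IsClosedImmersion (Spec.map (CommRingCat.ofHom φ)) := IsClosedImmersion.spec_of_surjective _ hφ
  rw [ThickProp.ker_app_eq_map hc ⟨⊤, isAffineOpen_top _⟩ U le_top, ker_app_top φ hφ, Ideal.map_map]
  rfl

variable {X : Scheme.{u}} (f : X ⟶ Spec (CommRingCat.of A))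

/-- The ideal sheaf of the thickening. -/
lemma ker_thickι (n : ℕ) (U : X.affineOpens) :
    letI : X.Over (Spec (CommRingCat.of A)) := ⟨f⟩
    (CohB1.thickι f I n).ker.ideal U = (I.map (W7Cech.secRing A U.1)) ^ (n + 1) := by
  letI : X.Over (Spec (CommRingCat.of A)) := ⟨f⟩
  haveI : IsClosedImmersion (CohB1.specQuot I n) := IsClosedImmersion.spec_of_surjective _ Ideal.Quotient.mk_surjective
  haveI : IsClosedImmersion (CohB1.thickι f I n) := MorphismProperty.pullback_fst _ _ inferInstance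
  rw [Scheme.Hom.ker_apply, ker_app_baseChange (f' := CohB1.thickToBase f I n) (Ideal.Quotient.mk (I ^ (n + 1)))
    Ideal.Quotient.mk_surjective (IsPullback.of_hasPullback f (CohB1.specQuot I n)) U, ker_mk_pow, Ideal.map_pow]

variable [IsNoetherianRing A] [IsAdicComplete I A]

/-- A closed subset proper over the complete base meets the zeros of the ideal. -/
lemma exists_mem_zeroLocus_of_isProperOver {T : Set X} (hT : ClSub.IsProperOver f T) (hne : T.Nonempty) :
    ∃ x ∈ T, ∀ a ∈ I, f.base x ∉ PrimeSpectrum.basicOpen a := by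
  obtain ⟨hc, hp⟩ := hT
  let r := ClSubLib.redι T hc
  let R := (Scheme.IdealSheafData.vanishingIdeal ⟨T, hc⟩).subscheme
  letI : R.Over (Spec (CommRingCat.of A)) := ⟨r ≫ f⟩
  haveI : IsProper (R ↘ Spec (CommRingCat.of A)) := hp
  obtain ⟨x, hx⟩ := hne
  obtain ⟨z, hz⟩ : x ∈ Set.range r := by rw [ClSubLib.range_redι T hc]; exact hx
  obtain ⟨y, -, hy⟩ := W7Exist.exists_mem_over_zeroLocus A I (X := R) isClosed_univ ⟨z, trivial⟩
  refine ⟨r.base y, (ClSubLib.range_redι T hc).le ⟨y, rfl⟩, fun a ha h => hy ⊤ trivial a ha ?_⟩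
  have h2 : W7Cech.secRing A (⊤ : R.Opens) a = resO R le_top (Coh.toGlobal (r ≫ f) a) := rfl
  rw [h2, Groth.Agent.QC.resO_self]
  have h3 : R.basicOpen (Coh.toGlobal (r ≫ f) a) = (r ≫ f) ⁻¹ᵁ PrimeSpectrum.basicOpen a := by
    rw [← basicOpen_eq_of_affine (R := CommRingCat.of A) a, Scheme.preimage_basicOpen]
    rfl
  rw [h3]
  exact h

/-- The points over the zeros of the ideal. -/
lemma notMem_basicOpen_secRing {x : X} (h : ∀ a ∈ I, f.base x ∉ PrimeSpectrum.basicOpen a) (U : X.Opens)
    (a : A) (ha : a ∈ I) :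
    letI : X.Over (Spec (CommRingCat.of A)) := ⟨f⟩
    x ∉ X.basicOpen (W7Cech.secRing A U a) := by
  letI : X.Over (Spec (CommRingCat.of A)) := ⟨f⟩
  intro hx
  have h2 : W7Cech.secRing A U a = resO X le_top (Coh.toGlobal f a) := rfl
  rw [h2] at hx
  have h1 : x ∈ X.basicOpen (Coh.toGlobal f a) := ((Scheme.basicOpen_res _ _ _).le hx).2
  have h3 : X.basicOpen (Coh.toGlobal f a) = f ⁻¹ᵁ PrimeSpectrum.basicOpen a := by
    rw [← basicOpen_eq_of_affine (R := CommRingCat.of A) a, Scheme.preimage_basicOpen]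
    rfl
  rw [h3] at h1
  exact h a ha h1

variable [IsSeparated f] [LocallyOfFiniteType f] [QuasiCompact f]

/-- Compatible closed subschemes of the thickenings come from one proper closed subscheme. -/
theorem exists_algebraization_closed (Z : ℕ → Scheme.{u}) (c : ∀ n, Z n ⟶ X) (hc : ∀ n, IsClosedImmersion (c n))
    (p : ∀ n, Z n ⟶ Spec (CommRingCat.of (A ⧸ I ^ (n + 1)))) (hcp : ∀ n, c n ≫ f = p n ≫ CohB1.specQuot I n)
    (t : ∀ n, Z n ⟶ Z (n + 1)) (hw : ∀ n, t n ≫ c (n + 1) = c n)
    (ht : ∀ n, IsPullback (t n) (p n) (p (n + 1)) (CohB1.specQuotTrans I n)) (hp : IsProper (c 0 ≫ f)) :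
    ∃ J : X.IdealSheafData, IsProper (J.subschemeι ≫ f) ∧
      ∀ n, (c n).ker = J ⊔ (CohB1.thickι f I n).ker := by
  classical
  letI : X.Over (Spec (CommRingCat.of A)) := ⟨f⟩
  haveI : IsSeparated (X ↘ Spec (CommRingCat.of A)) := ‹IsSeparated f›
  haveI : LocallyOfFiniteType (X ↘ Spec (CommRingCat.of A)) := ‹LocallyOfFiniteType f›
  haveI : QuasiCompact (X ↘ Spec (CommRingCat.of A)) := ‹QuasiCompact f›
  haveI : IsLocallyNoetherian X := LocallyOfFiniteType.isLocallyNoetherian f
  haveI : CompactSpace X := QuasiCompact.compactSpace_of_compactSpace f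
  haveI : IsNoetherian X := ⟨⟩
  haveI := hc
  haveI := fun n => LocallyOfFiniteType.isLocallyNoetherian (c n)
  let O := Coh.structureModule X
  let Q : ℕ → X.Modules := fun n => (Scheme.Modules.pushforward (c n)).obj (Coh.structureModule (Z n))
  let u : ∀ n, O ⟶ Q n := fun n => ClSub.unitToPush (c n)
  have hO : Coh.IsCoh O := RefStalk.isCoh_structureModule
  have hQ : ∀ n, Coh.IsCoh (Q n) := fun n =>
    haveI : (Coh.structureModule (Z n)).IsQuasicoherent := (RefStalk.isCoh_structureModule (X := Z n)).1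
    QC.isCoh_pushforward_of_isFinite (c n) (RefStalk.isCoh_structureModule (X := Z n)).2
  have hus : ∀ n (U : X.affineOpens), Function.Surjective ((c n).app U.1) := fun n U =>
    (c n).app_surjective U.1 U.2
  have hu : ∀ n, Epi (u n) := fun n => W7Exist.epi_of_surjective (fun U : X.affineOpens => U.1) (fun U => U.2)
    (fun x => by
      obtain ⟨U, hU, hxU, -⟩ := exists_isAffineOpen_mem_and_subset (x := x) (U := (⊤ : X.Opens)) trivial
      exact ⟨⟨U, hU⟩, hxU⟩) hO.1 (hQ n).1 _ fun U => hus n U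
  have hker : ∀ n {P : X.Modules} (g : O ⟶ P), Coh.IsQCoh P →
      (∀ (U : X.affineOpens) (r : Γ(X, U.1)), (c n).app U.1 r = 0 → g.app U.1 r = 0) → ∃ w, u n ≫ w = g := by
    intro n P g _ h
    haveI := hu n
    refine exists_desc_of_epi (u n) g (hom_eq_zero_of_cover (fun U : X.affineOpens => U.1) (fun U => U.2)
      (fun x => by
        obtain ⟨U, hU, hxU, -⟩ := exists_isAffineOpen_mem_and_subset (x := x) (U := (⊤ : X.Opens)) trivial
        exact ⟨⟨U, hU⟩, hxU⟩) (QC.isQCoh_kernel hO.1 (hQ n).1 _) _ fun U s => ?_)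
    exact h U _ (congr(($(kernel.condition (u n))).app U.1 s))
  choose τ hτ using fun n => hker (n + 1) (u n) (hQ n).1 fun U r hr => by
    change (c n).app U.1 r = 0
    have h := congr(($(Scheme.Hom.congr_app (hw n).symm U.1)).hom r)
    rw [h]
    change _ = _
    simp only [Scheme.Hom.comp_app, CommRingCat.comp_apply, hr, map_zero]
  have hkill : ∀ n, Formal.KilledBy (I ^ (n + 1)) (Q n) := fun n => by
    letI : (Z n).Over (Spec (CommRingCat.of (A ⧸ I ^ (n + 1)))) := ⟨p n⟩
    refine killedBy_push (φ := Ideal.Quotient.mk (I ^ (n + 1))) (q := c n) (hcp n) fun b hb => ?_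
    rw [Ideal.map_quotient_self, Ideal.mem_bot] at hb
    rw [hb, smulMod_zero]
  have hτe : ∀ n, Epi (τ n) := fun n => by
    haveI := hu n
    exact epi_of_epi_fac (hτ n)
  have hτu : ∀ n, ∃ w, τ n ≫ w = cokernel.π (Formal.smulFamily (I ^ (n + 1)) (Q (n + 1))) := fun n => by
    let z := cokernel.π (Formal.smulFamily (I ^ (n + 1)) (Q (n + 1)))
    obtain ⟨w, hw'⟩ := hker n (u (n + 1) ≫ z) (W7Rees.isQCoh_modQuot _ _ (hQ (n + 1)).1) fun U r hr => by
      change (Formal.modPowπ I (n + 1) (Q (n + 1))).app U.1 ((u (n + 1)).app U.1 r) = 0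
      refine (W7Rees.π_app_eq_zero_iff I (hQ (n + 1)).1 U.2 (n + 1) _).2 ?_
      letI : (Z (n + 1)).Over (Spec (CommRingCat.of (A ⧸ I ^ (n + 2)))) := ⟨p (n + 1)⟩
      let r' : Γ(Z (n + 1), c (n + 1) ⁻¹ᵁ U.1) := (c (n + 1)).app U.1 r
      have h1 : (t n).app (c (n + 1) ⁻¹ᵁ U.1) r' = 0 := by
        have h := congr(($(Scheme.Hom.congr_app (hw n).symm U.1)).hom r)
        rw [hr] at h
        simp only [Scheme.Hom.comp_app, CommRingCat.comp_apply] at h
        exact (map_eq_zero_iff _ (ConcreteCategory.bijective_of_isIso ((Z n).presheaf.map _)).1).1 h.symm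
      have h2 : r' ∈ RingHom.ker ((t n).app (c (n + 1) ⁻¹ᵁ U.1)).hom := h1
      rw [ker_app_baseChange (f' := p n) (Ideal.Quotient.factor (Ideal.pow_le_pow_right (Nat.le_succ (n + 1))))
        (Ideal.Quotient.factor_surjective _) (ht n) ⟨_, U.2.preimage (c (n + 1))⟩] at h2
      refine Submodule.span_induction (p := fun (b : Γ(Z (n + 1), c (n + 1) ⁻¹ᵁ U.1)) _ => (show Γ(Q (n + 1), U.1) from b) ∈
        ((I.map (W7Cech.secRing A U.1)) ^ (n + 1) • ⊤ : Submodule Γ(X, U.1) Γ(Q (n + 1), U.1))) ?_ ?_ ?_ ?_ h2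
      · rintro _ ⟨b, hb, rfl⟩
        obtain ⟨a, rfl⟩ := Ideal.Quotient.mk_surjective b
        have ha : a ∈ I ^ (n + 1) := by
          rw [SetLike.mem_coe, RingHom.mem_ker, Ideal.Quotient.factor_mk] at hb
          exact Ideal.Quotient.eq_zero_iff_mem.1 hb
        rw [← secRing_pull (A := A) (X := X) (φ := Ideal.Quotient.mk (I ^ (n + 1 + 1))) (q := c (n + 1)) (hcp (n + 1)) U.1 a]
        have h3 := Submodule.smul_mem_smul (I := (I.map (W7Cech.secRing A U.1)) ^ (n + 1))
          (r := W7Cech.secRing A U.1 a) (by rw [← Ideal.map_pow]; exact Ideal.mem_map_of_mem _ ha)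
          (Submodule.mem_top : (show Γ(Q (n + 1), U.1) from (1 : Γ(Z (n + 1), c (n + 1) ⁻¹ᵁ U.1))) ∈
            (⊤ : Submodule Γ(X, U.1) Γ(Q (n + 1), U.1)))
        convert h3 using 1
        exact (mul_one (show Γ(Z (n + 1), c (n + 1) ⁻¹ᵁ U.1) from (c (n + 1)).app U.1 (W7Cech.secRing A U.1 a))).symm
      · exact zero_mem _
      · exact fun _ _ _ _ h h' => add_mem h h'
      · intro b x _ hx
        obtain ⟨b', rfl⟩ := hus (n + 1) U b
        exact Submodule.smul_mem _ b' hx
    haveI := hu (n + 1)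
    exact ⟨w, by rw [← cancel_epi (u (n + 1)), ← Category.assoc, hτ, hw']⟩
  let G : ℕᵒᵖ ⥤ X.Modules := Functor.ofOpSequence τ
  have hG : Formal.IsCohFormal I G := isCohFormal_of I Q τ hQ hkill hτe hτu
  have hGs : ClSub.IsProperOver f (CohB1.support (G.obj (op 0))) := by
    haveI : IsProper (c 0 ≫ f) := hp
    exact ClSubLib.mono (ClSubLib.isProperOver_range f (c 0)) (QC.isClosed_support (hQ 0).2)
      (ClSubLib.support_pushforward_subset (c 0) _)
  obtain ⟨M, hM, hMs, ⟨eM⟩⟩ := exists_algebraization_properSupport A I G hG hGs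
  -- the map from the structure module
  choose α hα using fun n => exists_desc_modPow I (n + 1) (u n) fun a ha => by
    rw [W7Cech.smulMod_natural, hkill n a ha, comp_zero]
  let ψ₀ : Formal.completion I O ⟶ G := NatTrans.ofOpSequence α fun n => by
    rw [← cancel_epi (Formal.modPowπ I (n + 1 + 1) O), ← Category.assoc, ← Category.assoc, hα]
    refine (congrArg (· ≫ α n) (π_succ I O n)).trans ((hα n).trans ?_)
    exact (hτ n).symm.trans (congrArg (u (n + 1) ≫ ·) (Functor.ofOpSequence_map_homOfLE_succ τ n).symm)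
  obtain ⟨s, hs, -⟩ := W7Rees.completion_full I hO hM
    (ClSubLib.mono hMs ((QC.isClosed_support hO.2).inter (QC.isClosed_support hM.2)) Set.inter_subset_right)
    (ψ₀ ≫ eM.inv)
  have hsn : ∀ n, s ≫ Formal.modPowπ I (n + 1) M ≫ eM.hom.app (op n) = u n := fun n => by
    rw [← Category.assoc, ← hs n, Category.assoc]
    refine (congrArg (Formal.modPowπ I (n + 1) O ≫ ·) ?_).trans (hα n)
    change (α n ≫ eM.inv.app (op n)) ≫ eM.hom.app (op n) = α n
    rw [Category.assoc, Iso.inv_hom_id_app]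
    exact Category.comp_id _
  haveI hsepi : Epi s := by
    refine Abelian.epi_of_cokernel_π_eq_zero _ ?_
    have hC : Coh.IsCoh (cokernel s) := QC.isCoh_cokernel hO.1 hM s
    have hC0 : CohB1.support (cokernel s) = ∅ := by
      by_contra hne
      obtain ⟨x, hx, hxI⟩ := exists_mem_zeroLocus_of_isProperOver I f
        (ClSubLib.mono hMs (QC.isClosed_support hC.2) (support_of_epi (cokernel.π s)))
        (Set.nonempty_iff_ne_empty.2 hne)
      have h0 := mem_support_modPow_one I hC (fun U _ a ha => notMem_basicOpen_secRing I f hxI U a ha) hx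
      have hz : Formal.modPowπ I 1 (cokernel s) = 0 := by
        obtain ⟨z, hz⟩ := exists_desc_modPow I 1 (cokernel.π s ≫ Formal.modPowπ I 1 (cokernel s)) fun a ha => by
          rw [← Category.assoc, W7Cech.smulMod_natural, Category.assoc, smulMod_π I _ _ a ha, comp_zero]
        haveI := hu 0
        have h1 : u 0 ≫ eM.inv.app (op 0) ≫ z = 0 := by
          rw [← hsn 0, Category.assoc, Category.assoc, Iso.hom_inv_id_app_assoc]
          refine (congrArg (s ≫ ·) hz).trans ?_
          rw [← Category.assoc, cokernel.condition, zero_comp]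
        have h2 : z = 0 := by
          have h1' : eM.inv.app (op 0) ≫ z = 0 := by
            rw [← cancel_epi (u 0), comp_zero]
            exact h1
          rw [← cancel_epi (eM.inv.app (op 0)), comp_zero]
          exact h1'
        rw [← cancel_epi (cokernel.π s), comp_zero, ← hz, h2, comp_zero]
      haveI : Epi (Formal.modPowπ I 1 (cokernel s)) := inferInstanceAs (Epi (cokernel.π _))
      refine h0 (subsingleton_of_forall_eq 0 fun m => ?_)
      obtain ⟨U, hxU, t, rfl⟩ := TopCat.Presheaf.exists_germ_eq (Formal.modPow I 1 (cokernel s)).presheaf m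
      have hid : 𝟙 (Formal.modPow I 1 (cokernel s)) = 0 := by
        rw [← cancel_epi (Formal.modPowπ I 1 (cokernel s)), Category.comp_id, hz, zero_comp]
      have ht0 : t = 0 := congr(($hid).app U t)
      rw [ht0, map_zero]
    refine Scheme.Modules.hom_ext _ _ fun U => ?_
    ext m
    exact eq_zero_of_support (N := cokernel s) (fun x _ hx => by rw [hC0] at hx; exact hx) _
  -- the ideal
  let J := ClSubLib.annIdeal M hM.1 hM.2
  refine ⟨J, ClSubLib.isProper_comp f J.subschemeι hMs (ClSubLib.range_annIdeal M hM.1 hM.2).le,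
    fun n => Scheme.IdealSheafData.ext (funext fun U => ?_)⟩
  rw [Scheme.IdealSheafData.ideal_sup, Pi.sup_apply, ker_thickι, Scheme.Hom.ker_apply]
  let e : Γ(M, U.1) := s.app U.1 (show Γ(O, U.1) from (1 : Γ(X, U.1)))
  have he : ∀ m : Γ(M, U.1), ∃ r : Γ(X, U.1), r • e = m := fun m => by
    obtain ⟨r, rfl⟩ := QC.app_surjective_of_epi U.2 hO.1 hM.1 s m
    refine ⟨show Γ(X, U.1) from r, ?_⟩
    rw [← Scheme.Modules.Hom.app_smul]
    exact congrArg (s.app U.1) (mul_one (show Γ(X, U.1) from r))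
  have hJ : J.ideal U = Module.annihilator Γ(X, U.1) Γ(M, U.1) := rfl
  have hann : ∀ r : Γ(X, U.1), r ∈ J.ideal U ↔ r • e = 0 := fun r => by
    rw [hJ, Module.mem_annihilator]
    refine ⟨fun h => h e, fun h m => ?_⟩
    obtain ⟨r', rfl⟩ := he m
    rw [smul_comm, h, smul_zero]
  have hq : ∀ r : Γ(X, U.1), (c n).app U.1 r = 0 ↔
      r • e ∈ ((I.map (W7Cech.secRing A U.1)) ^ (n + 1) • ⊤ : Submodule Γ(X, U.1) Γ(M, U.1)) := fun r => by
    rw [← W7Rees.π_app_eq_zero_iff I hM.1 U.2 (n + 1)]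
    have h1 : (s ≫ Formal.modPowπ I (n + 1) M ≫ eM.hom.app (op n)).app U.1 (show Γ(O, U.1) from r) =
        (c n).app U.1 r := by rw [hsn]; rfl
    have h2 : r • e = s.app U.1 (show Γ(O, U.1) from r) := by
      rw [← Scheme.Modules.Hom.app_smul]
      exact congrArg (s.app U.1) (mul_one r)
    rw [h2, ← h1]
    exact map_eq_zero_iff ((eM.hom.app (op n)).app U.1).hom
      (ConcreteCategory.bijective_of_isIso ((eM.hom.app (op n)).app U.1)).1
  ext r
  rw [RingHom.mem_ker, hq]
  constructor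
  · intro h
    have h' : r • e ∈ ((I.map (W7Cech.secRing A U.1)) ^ (n + 1) • Submodule.span Γ(X, U.1) {e}) := by
      rwa [show Submodule.span Γ(X, U.1) {e} = ⊤ from eq_top_iff.2 fun m _ =>
        Submodule.mem_span_singleton.2 (he m)]
    obtain ⟨d, hd, hde⟩ := Submodule.mem_smul_span_singleton.1 h'
    rw [show r = (r - d) + d by ring]
    exact Submodule.add_mem_sup ((hann _).2 (by rw [sub_smul, hde, sub_self])) hd
  · intro h
    obtain ⟨b, hb, d, hd, rfl⟩ := Submodule.mem_sup.1 h
    rw [add_smul, (hann b).1 hb, zero_add]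
    exact Submodule.smul_mem_smul hd Submodule.mem_top

end Groth.Agent.W7Alg
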