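import Groth.Agent.W7Alg.Closed
import Groth.Agent.ThickSys.Sheaf

/-!
Closed subschemes algebraizing compatible systems, in cartesian form.
-/

set_option autoImplicit false
set_option backward.isDefEq.respectTransparency false
set_option backward.isDefEq.respectTransparency.types false
set_option linter.style.haveILetI false
set_option maxHeartbeats 1000000

universe u

open CategoryTheory CategoryTheory.Limits AlgebraicGeometry TopologicalSpace Opposite

noncomputable section

namespace Groth.Agent.W7Alg

variable {A : Type u} [CommRing A] (I : Ideal A) {X : Scheme.{u}} (f : X ⟶ Spec (CommRingCat.of A))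

instance isClosedImmersion_specQuot (n : ℕ) : IsClosedImmersion (CohB1.specQuot I n) :=
  IsClosedImmersion.spec_of_surjective _ Ideal.Quotient.mk_surjective

instance isClosedImmersion_thickι (n : ℕ) : IsClosedImmersion (CohB1.thickι f I n) :=
  MorphismProperty.pullback_fst _ _ inferInstance

lemma thickTrans_fst (n : ℕ) : CohB1.thickTrans f I n ≫ CohB1.thickι f I (n + 1) = CohB1.thickι f I n :=
  (pullback.lift_fst _ _ _).trans (Category.comp_id _)

lemma thickTrans_snd (n : ℕ) :
    CohB1.thickTrans f I n ≫ CohB1.thickToBase f I (n + 1) = CohB1.thickToBase f I n ≫ CohB1.specQuotTrans I n :=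
  pullback.lift_snd _ _ _

/-- The thickenings form cartesian squares. -/
lemma isPullback_thickTrans (n : ℕ) :
    IsPullback (CohB1.thickTrans f I n) (CohB1.thickToBase f I n) (CohB1.thickToBase f I (n + 1))
      (CohB1.specQuotTrans I n) :=
  IsPullback.of_right (by
    rw [thickTrans_fst, CohB1.specQuotTrans_specQuot]
    exact IsPullback.of_hasPullback f (CohB1.specQuot I n)) (thickTrans_snd I f n)
    (IsPullback.of_hasPullback f (CohB1.specQuot I (n + 1)))

/-- Closed immersions with kernel the inverse image of an ideal give cartesian squares. -/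
lemma isPullback_of_ker {Y Z W : Scheme.{u}} (i : W ⟶ Y) (j : X ⟶ Y) [IsClosedImmersion i] (z : Z ⟶ X)
    [IsClosedImmersion z] (w : Z ⟶ W) (hw : w ≫ i = z ≫ j) (h : z.ker = i.ker.comap j) :
    IsPullback w z i j := by
  haveI : IsClosedImmersion (pullback.snd i j) := MorphismProperty.pullback_snd _ _ inferInstance
  have hk : (pullback.snd i j).ker = z.ker := by
    rw [h, ThickProp.ker_eq_comap (IsPullback.of_hasPullback i j).flip]
  haveI := IsClosedImmersion.isIso_lift (pullback.snd i j) z hk
  let l := IsClosedImmersion.lift (pullback.snd i j) z hk.le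
  have hl : l ≫ pullback.snd i j = z := IsClosedImmersion.lift_fac _ _ _
  refine (IsPullback.of_hasPullback i j).of_iso (asIso l).symm (Iso.refl _) (Iso.refl _) (Iso.refl _) ?_ ?_
    (by simp) (by simp)
  · change pullback.fst i j ≫ 𝟙 _ = inv l ≫ w
    rw [Category.comp_id, ← cancel_mono i, Category.assoc, hw, pullback.condition, ← hl, Category.assoc,
      IsIso.inv_hom_id_assoc]
  · change pullback.snd i j ≫ 𝟙 _ = inv l ≫ z
    rw [Category.comp_id, ← hl, IsIso.inv_hom_id_assoc]

variable [IsNoetherianRing A] [IsAdicComplete I A] [IsSeparated f] [LocallyOfFiniteType f] [QuasiCompact f]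

/-- Compatible closed subschemes of the thickenings come from one proper closed subscheme. -/
theorem exists_closed_subscheme (Z : ℕ → Scheme.{u}) (c : ∀ n, Z n ⟶ X) (hc : ∀ n, IsClosedImmersion (c n))
    (p : ∀ n, Z n ⟶ Spec (CommRingCat.of (A ⧸ I ^ (n + 1)))) (hcp : ∀ n, c n ≫ f = p n ≫ CohB1.specQuot I n)
    (t : ∀ n, Z n ⟶ Z (n + 1)) (hw : ∀ n, t n ≫ c (n + 1) = c n)
    (ht : ∀ n, IsPullback (t n) (p n) (p (n + 1)) (CohB1.specQuotTrans I n)) (hp : IsProper (c 0 ≫ f)) :
    ∃ (W : Scheme.{u}) (i : W ⟶ X) (w : ∀ n, Z n ⟶ W), IsClosedImmersion i ∧ IsProper (i ≫ f) ∧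
      (∀ n, w n = t n ≫ w (n + 1)) ∧ (∀ n, w n ≫ i = c n) ∧
      ∀ n, IsPullback (w n) (p n) (i ≫ f) (CohB1.specQuot I n) := by
  obtain ⟨J, hJ, hker⟩ := exists_algebraization_closed I f Z c hc p hcp t hw ht hp
  haveI := hc
  have hle : ∀ n, J.subschemeι.ker ≤ (c n).ker := fun n => by
    rw [hker, Scheme.IdealSheafData.ker_subschemeι]; exact le_sup_left
  let w := fun n => IsClosedImmersion.lift J.subschemeι (c n) (hle n)
  have hwi : ∀ n, w n ≫ J.subschemeι = c n := fun n => IsClosedImmersion.lift_fac _ _ _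
  refine ⟨_, J.subschemeι, w, inferInstance, hJ, fun n => ?_, hwi, fun n => ?_⟩
  · rw [← cancel_mono J.subschemeι, Category.assoc, hwi, hwi, hw]
  let z : Z n ⟶ CohB1.thick f I n := pullback.lift (c n) (p n) (hcp n)
  have hz : z ≫ CohB1.thickι f I n = c n := pullback.lift_fst _ _ _
  haveI : IsClosedImmersion (z ≫ CohB1.thickι f I n) := by rw [hz]; exact hc n
  haveI : IsClosedImmersion z := IsClosedImmersion.of_comp z (CohB1.thickι f I n)
  have hzk : z.ker = J.subschemeι.ker.comap (CohB1.thickι f I n) := by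
    rw [ThickSys.ker_eq_comap_ker_comp z (CohB1.thickι f I n), hz, hker, Scheme.IdealSheafData.comap_sup,
      ThickSys.comap_ker_self, Scheme.IdealSheafData.ker_subschemeι]
    exact sup_bot_eq _
  have h1 := (isPullback_of_ker J.subschemeι (CohB1.thickι f I n) z (w n) (by rw [hwi, hz]) hzk).paste_vert
    (IsPullback.of_hasPullback f (CohB1.specQuot I n))
  rwa [show z ≫ CohB1.thickToBase f I n = p n from pullback.lift_snd _ _ _] at h1

end Groth.Agent.W7Alg
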