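import Groth.Agent.W7Alg.Subscheme
import Groth.Agent.ThickSys.Near
import Groth.Agent.ThickSys.NearIso

/-!
Open and closed pieces of the closed fibre extend to the whole scheme.
-/

set_option autoImplicit false
set_option backward.isDefEq.respectTransparency false
set_option backward.isDefEq.respectTransparency.types false
set_option linter.style.haveILetI false
set_option maxHeartbeats 1000000

universe u

open CategoryTheory CategoryTheory.Limits AlgebraicGeometry TopologicalSpace Opposite
open Groth.Agent.QC (resO)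

noncomputable section

namespace Groth.Agent.W7Alg

variable {A : Type u} [CommRing A] (I : Ideal A) {X : Scheme.{u}} (f : X ⟶ Spec (CommRingCat.of A))

lemma range_thickι (n : ℕ) :
    Set.range (CohB1.thickι f I n).base = {x | ∀ a ∈ I, f.base x ∉ PrimeSpectrum.basicOpen a} := by
  have h : Set.range (pullback.fst f (CohB1.specQuot I n)) = f ⁻¹' Set.range (CohB1.specQuot I n) :=
    Scheme.Pullback.range_fst _ _
  have h2 : Set.range (CohB1.specQuot I n) = PrimeSpectrum.zeroLocus (I : Set A) := by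
    refine (_root_.range_comap_of_surjective _ (Ideal.Quotient.mk (I ^ (n + 1)))
      Ideal.Quotient.mk_surjective).trans ?_
    rw [Ideal.mk_ker, PrimeSpectrum.zeroLocus_pow _ (Nat.succ_ne_zero n)]
  rw [show Set.range (CohB1.thickι f I n).base = _ from h, h2]
  ext x
  simp only [Set.mem_preimage, Set.mem_ofPred_eq]
  exact ⟨fun h a ha hb => hb (h ha), fun h a ha => by_contra fun hb => h a ha hb⟩

lemma range_thickι_zero (n : ℕ) :
    Set.range (CohB1.thickι f I n).base = Set.range (CohB1.thickι f I 0).base := by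
  rw [range_thickι, range_thickι]

variable [IsNoetherianRing A] [IsAdicComplete I A] [IsSeparated f] [LocallyOfFiniteType f] [QuasiCompact f]

/-- An open part of the closed fibre that is proper over the base extends to a clopen proper part. -/
theorem exists_clopen_lifting (V : (CohB1.thick f I 0).Opens) [IsProper (V.ι ≫ CohB1.thickToBase f I 0)] :
    ∃ U : X.Opens, IsClosed (U : Set X) ∧ IsProper (U.ι ≫ f) ∧ CohB1.thickι f I 0 ⁻¹ᵁ U = V := by
  classical
  haveI : IsLocallyNoetherian X := LocallyOfFiniteType.isLocallyNoetherian f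
  haveI : CompactSpace X := QuasiCompact.compactSpace_of_compactSpace f
  haveI : IsNoetherian X := ⟨⟩
  obtain ⟨O', hO'o, hO'⟩ := (CohB1.thickι f I 0).isClosedEmbedding.isInducing.isOpen_iff.1 V.2
  replace hO' : (CohB1.thickι f I 0).base ⁻¹' O' = (V : Set (CohB1.thick f I 0)) := hO'
  let O : X.Opens := ⟨O', hO'o⟩
  haveI : IsProper ((V.ι ≫ CohB1.thickι f I 0) ≫ f) := by
    rw [Category.assoc, pullback.condition, ← Category.assoc]; infer_instance
  haveI : IsProper (V.ι ≫ CohB1.thickι f I 0) := IsProper.of_comp _ f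
  let T : Set X := Set.range (V.ι ≫ CohB1.thickι f I 0)
  have hT : ClSub.IsProperOver f T := ClSubLib.isProperOver_range f _
  have hTO : T = (O : Set X) ∩ Set.range (CohB1.thickι f I 0).base := by
    ext x
    constructor
    · rintro ⟨⟨y, hy⟩, rfl⟩
      exact ⟨(show y ∈ (CohB1.thickι f I 0).base ⁻¹' O' by rw [hO']; exact hy), y, rfl⟩
    · rintro ⟨hx, y, rfl⟩
      exact ⟨⟨y, (show y ∈ (V : Set (CohB1.thick f I 0)) by rw [← hO']; exact hx)⟩, rfl⟩
  let Z : ℕ → Scheme.{u} := fun n => CohB1.thick (O.ι ≫ f) I n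
  let c : ∀ n, Z n ⟶ X := fun n => CohB1.thickι (O.ι ≫ f) I n ≫ O.ι
  have hrange : ∀ n, Set.range (c n) = T := fun n => by
    rw [hTO, range_thickι]
    refine (Set.range_comp O.ι.base (CohB1.thickι (O.ι ≫ f) I n).base).trans ?_
    rw [range_thickι]
    ext x
    constructor
    · rintro ⟨y, hy, rfl⟩
      exact ⟨y.2, hy⟩
    · rintro ⟨hxO, hx⟩
      exact ⟨⟨x, hxO⟩, hx, rfl⟩
  have hc : ∀ n, IsClosedImmersion (c n) := fun n =>
    .of_isPreimmersion _ (by rw [hrange]; exact hT.choose)
  haveI := hc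
  obtain ⟨W, i, w, hi, hip, -, hwi, hW⟩ := exists_closed_subscheme I f Z c hc
    (fun n => CohB1.thickToBase (O.ι ≫ f) I n) (fun n => (Category.assoc _ _ _).trans pullback.condition)
    (fun n => CohB1.thickTrans (O.ι ≫ f) I n) (fun n => by rw [← Category.assoc, thickTrans_fst])
    (fun n => isPullback_thickTrans I (O.ι ≫ f) n) (ClSubLib.isProper_comp f (c 0) hT (hrange 0).le)
  -- the range over the zeros
  have hover : ∀ x ∈ Set.range i, (∀ a ∈ I, f.base x ∉ PrimeSpectrum.basicOpen a) → x ∈ O := by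
    rintro _ ⟨y, rfl⟩ hy
    have h1 : f.base (i.base y) ∈ Set.range (CohB1.specQuot I 0) := by
      refine ((_root_.range_comap_of_surjective _ (Ideal.Quotient.mk (I ^ (0 + 1)))
        Ideal.Quotient.mk_surjective).ge ?_)
      rw [Ideal.mk_ker, PrimeSpectrum.zeroLocus_pow _ (Nat.succ_ne_zero 0), PrimeSpectrum.mem_zeroLocus]
      intro a ha
      by_contra h
      exact hy a ha h
    obtain ⟨s, hs⟩ := h1
    obtain ⟨z, hz, -⟩ := Scheme.exists_preimage_of_isPullback (hW 0) y s hs.symm
    have : i.base y ∈ T := by rw [← hrange 0, ← hwi 0]; exact ⟨z, congrArg i.base hz⟩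
    rw [hTO] at this
    exact this.1
  -- near those points the range is open
  have hnear : ∀ x ∈ Set.range i, (∀ a ∈ I, f.base x ∉ PrimeSpectrum.basicOpen a) →
      ∃ Ω : X.Opens, x ∈ Ω ∧ (Ω : Set X) ⊆ Set.range i := by
    intro x hx hxI
    obtain ⟨U, hU, hxU, hUO⟩ := exists_isAffineOpen_mem_and_subset (x := x) (U := O) (hover x hx hxI)
    haveI := IsLocallyNoetherian.component_noetherian ⟨U, hU⟩
    letI : X.Over (Spec (CommRingCat.of A)) := ⟨f⟩
    let J : Ideal Γ(X, U) := i.ker.ideal ⟨U, hU⟩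
    let K : Ideal Γ(X, U) := I.map (W7Cech.secRing A U)
    have hJ : ∀ n, J ≤ K ^ (n + 1) := by
      intro n r hr
      have h1 : r ∈ (c n).ker.ideal ⟨U, hU⟩ := by
        rw [← hwi n]; exact (w n).le_ker_comp i ⟨U, hU⟩ hr
      rw [Scheme.Hom.ker_apply, RingHom.mem_ker] at h1
      have hUr : U ≤ O.ι.opensRange := by rw [Scheme.Opens.opensRange_ι]; exact hUO
      have hU' : IsAffineOpen (O.ι ⁻¹ᵁ U) := hU.preimage_of_isOpenImmersion O.ι hUr
      have h2 : O.ι.app U r ∈ (CohB1.thickι (O.ι ≫ f) I n).ker.ideal ⟨_, hU'⟩ := by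
        rw [Scheme.Hom.ker_apply, RingHom.mem_ker]; exact h1
      rw [ker_thickι] at h2
      haveI := O.ι.isIso_app U hUr
      have hsec : ∀ a, O.ι.app U (W7Cech.secRing A U a) =
          (letI : O.toScheme.Over (Spec (CommRingCat.of A)) := ⟨O.ι ≫ f⟩; W7Cech.secRing A (O.ι ⁻¹ᵁ U) a) := fun a => by
        letI : O.toScheme.Over (Spec (CommRingCat.of A)) := ⟨O.ι ≫ f⟩
        exact W7Rees.secRing_push O.ι rfl U a
      have hmap : (letI : O.toScheme.Over (Spec (CommRingCat.of A)) := ⟨O.ι ≫ f⟩;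
          (I.map (W7Cech.secRing A (O.ι ⁻¹ᵁ U))) ^ (n + 1)) = (K ^ (n + 1)).map (O.ι.app U).hom := by
        rw [Ideal.map_pow, Ideal.map_map]
        exact congrArg (fun φ => (I.map φ) ^ (n + 1)) (RingHom.ext hsec).symm
      rw [hmap] at h2
      obtain ⟨r', hr', hrr'⟩ := (Ideal.mem_map_iff_of_surjective (O.ι.app U).hom
        (ConcreteCategory.bijective_of_isIso (O.ι.app U)).2).1 h2
      rwa [← (ConcreteCategory.bijective_of_isIso (O.ι.app U)).1 hrr']
    have hKP : K ≤ (hU.primeIdealOf ⟨x, hxU⟩).asIdeal := by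
      rw [Ideal.map_le_iff_le_comap]
      intro a ha
      rw [Ideal.mem_comap]
      by_contra hb
      exact notMem_basicOpen_secRing I f hxI U a ha ((ThickSys.mem_basicOpen_iff hU hxU _).2 hb)
    obtain ⟨s, hs, hs'⟩ := ThickSys.exists_notMem_mul_eq_zero J K _ hKP hJ
    refine ⟨X.basicOpen s, (ThickSys.mem_basicOpen_iff hU hxU s).2 hs, fun y hy => ?_⟩
    rw [← i.isClosedEmbedding.isClosed_range.closure_eq, ← Scheme.Hom.support_ker,
      SetLike.mem_coe, Scheme.IdealSheafData.mem_support_iff_of_mem (U := ⟨U, hU⟩) (X.basicOpen_le s hy),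
      Scheme.mem_zeroLocus_iff]
    intro a ha hya
    have h0 : y ∈ X.basicOpen (s * a) := by rw [Scheme.basicOpen_mul]; exact ⟨hy, hya⟩
    rw [hs' a ha, Scheme.basicOpen_zero] at h0
    exact h0
  have hopen : IsOpen (Set.range i) := by
    by_contra hno
    let B : Set X := Set.range i \ interior (Set.range i)
    have hBc : IsClosed B := i.isClosedEmbedding.isClosed_range.inter isOpen_interior.isClosed_compl
    have hBne : B.Nonempty := by
      by_contra he
      rw [Set.not_nonempty_iff_eq_empty, Set.sdiff_eq_empty] at he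
      exact hno (by rw [← subset_antisymm interior_subset he]; exact isOpen_interior)
    haveI : IsClosedImmersion i := hi
    haveI : IsProper (i ≫ f) := hip
    obtain ⟨x, hxB, hxI⟩ := exists_mem_zeroLocus_of_isProperOver I f
      (ClSubLib.isProperOver_of_subset f i B hBc Set.sdiff_subset) hBne
    obtain ⟨Ω, hxΩ, hΩ⟩ := hnear x hxB.1 hxI
    exact hxB.2 (interior_maximal hΩ Ω.2 hxΩ)
  let U : X.Opens := ⟨Set.range i, hopen⟩
  haveI : IsClosedImmersion U.ι := .of_isPreimmersion _ (by
    rw [Scheme.Opens.range_ι]; exact i.isClosedEmbedding.isClosed_range)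
  refine ⟨U, i.isClosedEmbedding.isClosed_range, ?_, ?_⟩
  · haveI : IsProper (i ≫ f) := hip
    exact ClSubLib.isProper_comp f U.ι (ClSubLib.isProperOver_range f i) (by rw [Scheme.Opens.range_ι]; exact subset_rfl)
  · ext y
    constructor
    · intro hy
      have hyI : ∀ a ∈ I, f.base ((CohB1.thickι f I 0).base y) ∉ PrimeSpectrum.basicOpen a :=
        (range_thickι I f 0).le ⟨y, rfl⟩
      change y ∈ (V : Set (CohB1.thick f I 0))
      rw [← hO']
      exact hover _ hy hyI
    · intro hy
      have : (CohB1.thickι f I 0).base y ∈ T := ⟨⟨y, hy⟩, rfl⟩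
      rw [← hrange 0, ← hwi 0] at this
      obtain ⟨z, hz⟩ := this
      exact ⟨(w 0).base z, hz⟩

end Groth.Agent.W7Alg
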