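import Groth.Agent.W7Alg.Clopen
import Mathlib.AlgebraicGeometry.ZariskisMainTheorem

/-!
Algebraization of morphisms.
-/

set_option autoImplicit false
set_option backward.isDefEq.respectTransparency false
set_option backward.isDefEq.respectTransparency.types false
set_option linter.style.haveILetI false
set_option maxHeartbeats 1000000

universe u

open CategoryTheory CategoryTheory.Limits AlgebraicGeometry TopologicalSpace Opposite

noncomputable section

namespace Groth.Agent.W7Alg

variable {A : Type u} [CommRing A] [IsNoetherianRing A] (I : Ideal A) [IsAdicComplete I A]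

/-- A proper map which is an isomorphism over all thickenings is one. -/
theorem isIso_of_thick {W X : Scheme.{u}} (π : W ⟶ X) [IsProper π] (f : X ⟶ Spec (CommRingCat.of A)) [IsProper f]
    (w : ∀ n, CohB1.thick f I n ⟶ W)
    (h : ∀ n, IsPullback (w n) (𝟙 (CohB1.thick f I n)) π (CohB1.thickι f I n)) : IsIso π := by
  haveI : IsLocallyNoetherian X := LocallyOfFiniteType.isLocallyNoetherian f
  letI : X.Over (Spec (CommRingCat.of A)) := ⟨f⟩
  let K := (CohB1.thickι f I 0).ker
  have hK : ∀ n, (CohB1.thickι f I n).ker = K ^ (n + 1) := fun n =>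
    Scheme.IdealSheafData.ext (funext fun U => by
      rw [ker_thickι, Scheme.IdealSheafData.ideal_pow, Pi.pow_apply, ker_thickι]
      rw [pow_one])
  haveI := fun n => IsClosedImmersion.isIso_lift (K ^ (n + 1)).subschemeι (CohB1.thickι f I n)
    (by rw [Scheme.IdealSheafData.ker_subschemeι, hK])
  let b : ∀ n, CohB1.thick f I n ⟶ (K ^ (n + 1)).subscheme := fun n =>
    IsClosedImmersion.lift (K ^ (n + 1)).subschemeι (CohB1.thickι f I n)
      (by rw [Scheme.IdealSheafData.ker_subschemeι, hK])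
  have hb : ∀ n, b n ≫ (K ^ (n + 1)).subschemeι = CohB1.thickι f I n := fun n => IsClosedImmersion.lift_fac _ _ _
  haveI : ∀ n, IsIso (b n) := fun n => inferInstance
  have sq : ∀ n, IsPullback (w n) (b n) π (K ^ (n + 1)).subschemeι := fun n =>
    (h n).of_iso (Iso.refl _) (Iso.refl _) (asIso (b n)) (Iso.refl _) (by simp) (by simp) (by simp)
      (by simp [hb])
  let Ω : X.Opens := sSup {V | IsIso (π ∣_ V)}
  have hΩ : ∀ x ∈ Ω, ∃ V : X.Opens, x ∈ V ∧ IsIso (π ∣_ V) := fun x hx => by
    obtain ⟨V, hV, hxV⟩ := Opens.mem_sSup.1 hx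
    exact ⟨V, hxV, hV⟩
  have hnear : ∀ x : X, (∀ a ∈ I, f.base x ∉ PrimeSpectrum.basicOpen a) → x ∈ Ω := by
    intro x hx
    have hxr : x ∈ Set.range (CohB1.thickι f I 0).base := (range_thickι I f 0).ge hx
    have hxK : x ∈ K.support := by
      rw [← SetLike.mem_coe, Scheme.Hom.support_ker]; exact subset_closure hxr
    have hxr' : x ∈ Set.range (K ^ (0 + 1)).subschemeι := by
      rw [Scheme.IdealSheafData.range_subschemeι, pow_one]; exact hxK
    obtain ⟨V, hxV, hV⟩ := exists_isFinite_morphismRestrict_of_finite_preimage_singleton π x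
      (ThickSys.subsingleton_fibre (sq 0) hxr').finite
    haveI := hV
    have sqV : IsPullback (π ⁻¹ᵁ V).ι (π ∣_ V) π V.ι := (isPullback_morphismRestrict π V).flip
    let K₁ := K ^ (0 + 1)
    have sq' := IsPullback.of_hasPullback V.ι K₁.subschemeι
    obtain ⟨a', b', sqa, hb'⟩ : ∃ (a' : pullback (π ∣_ V) (pullback.fst V.ι K₁.subschemeι) ⟶ _) (b' : _ ⟶ _),
        IsPullback a' b' (π ∣_ V) (pullback.fst V.ι K₁.subschemeι) ∧ IsClosedImmersion b' := by
      refine ⟨_, _, IsPullback.of_hasPullback _ _, ?_⟩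
      have big := (IsPullback.of_hasPullback (π ∣_ V) (pullback.fst V.ι K₁.subschemeι)).paste_horiz sqV
      rw [sq'.w] at big
      exact MorphismProperty.of_isPullback (P := @IsClosedImmersion)
        (IsPullback.of_right' big (sq 0)) inferInstance
    haveI := hb'
    obtain ⟨V', hxV', hV'⟩ := ThickSys.exists_nhd_isClosedImmersion_of_isFinite sqa (y := ⟨x, hxV⟩) (by
      obtain ⟨s, hs⟩ := hxr'
      obtain ⟨z, hz, -⟩ := Scheme.exists_preimage_of_isPullback sq' ⟨x, hxV⟩ s hs.symm
      exact ⟨z, hz⟩)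
    haveI : IsClosedImmersion (π ∣_ V.ι ''ᵁ V') :=
      ((MorphismProperty.arrow_mk_iso_iff (P := @IsClosedImmersion)) (morphismRestrictRestrict π V V')).1 hV'
    obtain ⟨O, hxO, hO⟩ := ThickSys.exists_nhd_isIso (f := π) K (V.ι ''ᵁ V') _ w b sq hxK ⟨_, hxV', rfl⟩
    exact Opens.mem_sSup.2 ⟨O, hO, hxO⟩
  have htop : Ω = ⊤ := by
    refine eq_top_iff.2 fun x _ => ?_
    by_contra hx
    haveI : IsProper (𝟙 X ≫ f) := by rw [Category.id_comp]; infer_instance
    obtain ⟨y, hy, hyI⟩ := exists_mem_zeroLocus_of_isProperOver I f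
      (ClSubLib.isProperOver_of_subset f (𝟙 X) (Ω : Set X)ᶜ Ω.2.isClosed_compl fun z _ => ⟨z, rfl⟩) ⟨x, hx⟩
    exact hy (hnear y hyI)
  have h1 : MorphismProperty.isomorphisms Scheme (π ∣_ (⊤ : X.Opens)) := htop ▸
    ThickSys.restrict_of_forall_nhd (Q := MorphismProperty.isomorphisms Scheme) Ω fun y hy => hΩ y hy
  haveI : IsIso (π ∣_ (⊤ : X.Opens)) := h1
  exact (MorphismProperty.arrow_mk_iso_iff (MorphismProperty.isomorphisms Scheme)
    (Arrow.isoMk (Scheme.topIso W) (Scheme.topIso X) (morphismRestrict_ι π ⊤).symm)).1 h1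

/-- Compatible morphisms between the thickenings come from a morphism. -/
theorem exists_algebraization_hom {X Y : Scheme.{u}} (f : X ⟶ Spec (CommRingCat.of A))
    (h : Y ⟶ Spec (CommRingCat.of A)) [IsProper f] [IsSeparated h] [LocallyOfFiniteType h]
    [QuasiCompact h] (g : (n : ℕ) → (CohB1.thick f I n ⟶ CohB1.thick h I n))
    (hg₁ : ∀ n, g n ≫ CohB1.thickToBase h I n = CohB1.thickToBase f I n)
    (hg₂ : ∀ n, CohB1.thickTrans f I n ≫ g (n + 1) = g n ≫ CohB1.thickTrans h I n) :
    ∃ φ : X ⟶ Y, φ ≫ h = f ∧ ∀ n, CohB1.thickι f I n ≫ φ = g n ≫ CohB1.thickι h I n := by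
  let F : pullback f h ⟶ Spec (CommRingCat.of A) := pullback.fst f h ≫ f
  haveI : IsSeparated F := inferInstance
  haveI : LocallyOfFiniteType F := inferInstance
  haveI : QuasiCompact F := inferInstance
  have hcond : ∀ n, CohB1.thickι f I n ≫ f = (g n ≫ CohB1.thickι h I n) ≫ h := fun n => by
    rw [pullback.condition, Category.assoc, pullback.condition, ← Category.assoc, hg₁]
  let c : ∀ n, CohB1.thick f I n ⟶ pullback f h := fun n =>
    pullback.lift (CohB1.thickι f I n) (g n ≫ CohB1.thickι h I n) (hcond n)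
  have hc₁ : ∀ n, c n ≫ pullback.fst f h = CohB1.thickι f I n := fun n => pullback.lift_fst _ _ _
  have hc₂ : ∀ n, c n ≫ pullback.snd f h = g n ≫ CohB1.thickι h I n := fun n => pullback.lift_snd _ _ _
  have hc : ∀ n, IsClosedImmersion (c n) := fun n => by
    haveI : IsClosedImmersion (c n ≫ pullback.fst f h) := by rw [hc₁]; infer_instance
    exact IsClosedImmersion.of_comp (c n) (pullback.fst f h)
  obtain ⟨W, i, w, hi, hip, -, hwi, hW⟩ := exists_closed_subscheme I F _ c hc (fun n => CohB1.thickToBase f I n)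
    (fun n => by rw [← Category.assoc, hc₁, pullback.condition]) (fun n => CohB1.thickTrans f I n)
    (fun n => pullback.hom_ext (by rw [Category.assoc, hc₁, hc₁, thickTrans_fst]) (by
      rw [Category.assoc, hc₂, hc₂, ← Category.assoc, hg₂, Category.assoc, thickTrans_fst]))
    (fun n => isPullback_thickTrans I f n)
    (by
      change IsProper (c 0 ≫ pullback.fst f h ≫ f)
      rw [← Category.assoc, hc₁]
      infer_instance)
  haveI := hi
  let π : W ⟶ X := i ≫ pullback.fst f h
  haveI : IsProper (π ≫ f) := by rw [Category.assoc]; exact hip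
  haveI : IsProper π := IsProper.of_comp π f
  have hwπ : ∀ n, w n ≫ π = CohB1.thickι f I n := fun n => by rw [← Category.assoc, hwi, hc₁]
  haveI : IsIso π := isIso_of_thick I π f w fun n =>
    IsPullback.of_bot
      (by rw [Category.id_comp]; exact (show π ≫ f = i ≫ F from Category.assoc _ _ _) ▸ hW n)
      (by rw [hwπ, Category.id_comp]) (IsPullback.of_hasPullback f (CohB1.specQuot I n))
  refine ⟨inv π ≫ i ≫ pullback.snd f h, ?_, fun n => ?_⟩
  · rw [Category.assoc, Category.assoc, ← pullback.condition, IsIso.inv_comp_eq, Category.assoc]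
  · rw [← hwπ n, Category.assoc, IsIso.hom_inv_id_assoc, ← Category.assoc, hwi, hc₂]

end Groth.Agent.W7Alg
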